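import Cfsg.Agent.Mrg.Omega.OM.Lev.Low.YK
import Cfsg.Agent.Mrg.Omega.OM.Lev.Low.Half
import Cfsg.Agent.Mrg.Omega.NO3S.Level.Claim
import Cfsg.Agent.Mrg.Omega.OM.Lev.Low.BlOf
import Cfsg.Agent.Mrg.Omega.OM.SwapV.Lv.Frame
import Cfsg.Agent.Mrg.Omega.OM.Lev.Low.LowMain

section


/-!
# The instance of `Set5` for the blocks in the support of `z i`, over the frame `LnV`

`Inp S V Q n L W Z C A T Y j K E N c` : the frame `LnV` at the stage `n` (`q = 2`), `B ≤ T`, `Y` of the stage `j ≤ n`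
with its blocks. `σ` : a set of blocks which centralise some `Z j'`.

* `Inp.exists_set5` : `Set5` for `P = L i`, `Γ = ⟨L i, K l | l ∈ σ⟩`, `U = ⟨[E l, K l]^Γ⟩`.
-/

set_option autoImplicit false
set_option linter.unusedSectionVars false

namespace Cfsg.Agent.Omega.OM.LowV

open Subgroup Cfsg Cfsg.Agent.ZN.ChoiceBase Cfsg.Agent.ZN.ChoiceSit
open Cfsg.Agent.ZN (jj zj bau zc zl o2)
open Cfsg.Agent.Omega.LemmaK (Block WeakNormal)
open Cfsg.Agent.Omega.SQ1.Bau (elem_comm elem_sq)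
open Cfsg.Agent.Omega.OM.SwapL (ZL)
open Cfsg.Agent.Omega.OM.SwapV.Lv (LnV)
open Cfsg.Agent.Omega.OM.Lev.Low
open Cfsg.Agent.Omega.OM.LevB (lb zc_B nxt_lev isLev_T bz_lev)
open Cfsg.Agent.Omega.NO3S.Level (lev lev_mono lev_isLev Lev BO nxt lev_le_succ lev_le)
open Cfsg.Agent.Omega.NO3S.Level.Claim (Fm Bl)
open Cfsg.Agent.Omega.OM.Lev.Low.Five (Set5)
open scoped commutatorElement

universe u

variable {G : Type u} [Group G] [Finite G] {ι Λ : Type} {S : Sylow 2 G} {V Q : Subgroup G} {n : ℕ}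
  {L W Z C A : ι → Subgroup G} {T Y : Subgroup G} {j : ℕ} {K E N c : Λ → Subgroup G}

/-- The input. -/
structure Inp {ι Λ : Type} (S : Sylow 2 G) (V Q : Subgroup G) (n : ℕ) (L W Z C A : ι → Subgroup G) (T Y : Subgroup G)
    (j : ℕ) (K E N c : Λ → Subgroup G) : Prop where
  ln : LnV S V Q n L W Z C A
  two : ∀ i : ι, ∃ j, j ≠ i
  syl : Syl T Y
  BT : SwapL.BL (S : Subgroup G) n ≤ T
  jn : j ≤ n
  char2 : Y ⊓ centralizer (o2 Y : Set G) ≤ o2 Y
  low : ∀ i < j, lev (S : Subgroup G) i ≤ o2 Y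
  yk : YK T Y (zc (lev (S : Subgroup G) j)) (LevB.BL (S : Subgroup G) j) K E N c

namespace Inp

variable (h : Inp S V Q n L W Z C A T Y j K E N c)
include h

theorem BjB : LevB.BL (S : Subgroup G) j ≤ SwapL.BL (S : Subgroup G) n :=
  BL_mono (S : Subgroup G) (h.jn.trans (Nat.le_succ n))

theorem BjT : LevB.BL (S : Subgroup G) j ≤ T := h.BjB.trans h.BT

theorem BjL (i : ι) : LevB.BL (S : Subgroup G) j ≤ L i := h.BjB.trans (h.ln.fr.blk i).BL

theorem LQ (i : ι) : L i ≤ normalizer (Q : Set G) := fun l hl => mem_normalizer_of_cj_le (by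
  rintro _ ⟨x, hx, rfl⟩
  exact h.ln.fr.LQ i l hl x hx)

theorem levQ {m : ℕ} (hm : m ≤ n) : lev (S : Subgroup G) m ≤ Q := (lev_mono _ hm).trans h.ln.levQ

theorem LK (i : ι) {m : ℕ} (hm : m ≤ n) : L i ≤ normalizer (lev (S : Subgroup G) m : Set G) :=
  (h.LQ i).trans ((lev_isLev (S : Subgroup G) m).norm _ (h.levQ hm) (h.ln.fr.QB.trans (SwapL.lb S n).BS))

theorem LX (i : ι) : L i ≤ normalizer (zc (lev (S : Subgroup G) j) : Set G) :=
  (h.LK i h.jn).trans (NO3S.Level.normalizer_le_zc _)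

theorem QL (i : ι) : Q ≤ L i := h.ln.fr.QB.trans (h.ln.fr.blk i).BL

theorem QT : Q ≤ T := h.ln.fr.QB.trans h.BT

theorem TBj : T ≤ normalizer (LevB.BL (S : Subgroup G) j : Set G) := (lb S j).two_le h.syl.2.1 h.BjT

theorem elX : IsElementaryAbelian 2 (zc (lev (S : Subgroup G) j)) := NO3S.OneLine.zc_elem _

theorem wn : WeakNormal 2 (LevB.BL (S : Subgroup G) j) := fun _ hR hBR => (lb S j).two_le hR hBR

theorem V_sq (l : Λ) : ∀ v ∈ ⁅E l, K l⁆, v ^ 2 = 1 := fun v hv => by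
  obtain ⟨N1, N0, r, hp⟩ := h.yk.pb l
  exact elem_sq hp.el v (hp.VN hv)

theorem V_act (l : Λ) {k x : G} (hk : k ∈ K l) (hx : x ∈ zc (lev (S : Subgroup G) j)) :
    k * x * k⁻¹ * x⁻¹ ∈ ⁅E l, K l⁆ := by
  obtain ⟨N1, N0, r, hp⟩ := h.yk.pb l
  exact hp.act_V hk (by rw [zc_B]; exact hx)

theorem V_cent (l : Λ) : ⁅E l, K l⁆ ≤ centralizer (zc (lev (S : Subgroup G) j) : Set G) := by
  obtain ⟨N1, N0, r, hp⟩ := h.yk.pb l
  exact (hp.VN.trans hp.NB).trans inf_le_right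

/-- the centraliser of `K l` in `X` -/
theorem mem_cK {l : Λ} {x : G} (hx : x ∈ zc (lev (S : Subgroup G) j)) :
    x ∈ N l ↔ x ∈ centralizer (K l : Set G) := by
  rw [h.yk.memN l x hx, mem_centralizer_iff]
  exact Iff.rfl

/-- **The instance of `Set5`.** -/
theorem exists_set5 (i : ι) {i' : ι} (hi : i' ≠ i) (σ : Λ → Prop) (hσ : ∀ l, σ l → Z i' ≤ N l)
    (htr : ∀ l m : {l // σ l}, ∃ g ∈ L i, cj g ⁅E l, K l⁆ = ⁅E m, K m⁆) :
    ∃ AA, Set5 T (UU (L i ⊔ ⨆ l : {l // σ l}, K l) fun l : {l // σ l} => ⁅E l, K l⁆)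
      (L i ⊔ ⨆ l : {l // σ l}, K l) (LevB.BL (S : Subgroup G) j)
      (UU (L i ⊔ ⨆ l : {l // σ l}, K l) (fun l : {l // σ l} => ⁅E l, K l⁆) ⊓ zc (lev (S : Subgroup G) j)) (L i) AA
      (fun l : {l // σ l} => K l) fun l : {l // σ l} => ⁅E l, K l⁆ := by
  set Γ : Subgroup G := L i ⊔ ⨆ l : {l // σ l}, K l with hΓ
  set V' : {l // σ l} → Subgroup G := fun l => ⁅E l, K l⁆ with hV'
  set U := UU Γ V' with hU
  have hT2 := h.syl.2.1
  have hb := lb S j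
  have hle : lev (S : Subgroup G) j ≤ T := hb.KB.trans h.BjT
  have hLΓ : L i ≤ Γ := le_sup_left
  have hKΓ : ∀ l : {l // σ l}, K l ≤ Γ := fun l => (le_iSup (fun l : {l // σ l} => K l) l).trans le_sup_right
  have hUn : Γ ≤ normalizer (U : Set G) := UU_norm
  -- the common part
  have fin : ∀ AA, IsElementaryAbelian 2 U →
      Fm T U Γ (LevB.BL (S : Subgroup G) j) (U ⊓ zc (lev (S : Subgroup G) j)) AA →
      (∀ A ∈ AA, ∀ g ∈ L i, cj g A ∈ AA) →
      Set5 T U Γ (LevB.BL (S : Subgroup G) j) (U ⊓ zc (lev (S : Subgroup G) j)) (L i) AA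
        (fun l : {l // σ l} => K l) V' := by
    intro AA h2 hfm hPA
    refine ⟨hfm, fun l => ?_, h2, h.BjL i, hLΓ.trans hUn, fun g hg => ?_, hPA, htr, fun C hC hPC hKC => ?_⟩
    · obtain ⟨N1, N0, r, hp⟩ := h.yk.pb l
      exact BlOf.bl_V hp hfm (by rw [zc_B]) (le_UU (V := V') l) (hKΓ l) ((hKΓ l).trans hUn)
    · rw [mem_normalizer_iff_cj, cj_inf, cj_eq_of_mem_normalizer (hUn (hLΓ hg)),
        cj_eq_of_mem_normalizer (h.LX i hg)]
    · exact UU_le hC (sup_le hPC (iSup_le hKC))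
  -- stages
  have hj := h.jn
  have hlow := h.low
  have hBjT := h.BjT
  rcases Nat.eq_zero_or_pos j with h0 | hpos
  · -- stage `-1`
    have hjj : jj T = jj (S : Subgroup G) := MinSimple.EmptyTI.jj_eq S hT2 (by rw [h0] at hle; exact hle)
    have hzz : zc (lev (S : Subgroup G) j) = zj T := by
      rw [h0]
      show zc (jj (S : Subgroup G)) = zj T
      rw [← hjj, zc_jj]
    have hbau : bau T = LevB.BL (S : Subgroup G) j := by
      rw [← hb.inf_eq hT2 hBjT, hzz]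
      rfl
    -- the local group
    set H' : Subgroup G := normalizer (Z i' : Set G) with hH'
    have hZ1 : Z i' ≠ ⊥ := by
      intro e
      have h1 := h.ln.fr.cardZ i'
      rw [e, Subgroup.card_bot] at h1
      omega
    have hZ2 : IsPGroup 2 (Z i') := (lb S (n + 1)).Bp.to_le
      (((h.ln.fr.Z_le i').trans (h.ln.fr.ZJV)).trans (h.ln.fr.VQ.trans h.ln.fr.QB))
    have hcG := h.ln.char2.2 (Z i') hZ2 hZ1
    have hc' : H' ⊓ centralizer (o2 H' : Set G) ≤ o2 H' := by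
      rintro x ⟨hx, hxc⟩
      have h2 : (⟨x, hx⟩ : normalizer (Z i' : Set G)) ∈
          centralizer (pCore 2 (normalizer (Z i' : Set G)) : Set (normalizer (Z i' : Set G))) := by
        rw [mem_centralizer_iff]
        intro y hy
        refine Subtype.ext ?_
        exact mem_centralizer_iff.mp hxc (y : G) ⟨y, hy, rfl⟩
      exact ⟨⟨x, hx⟩, hcG h2, rfl⟩
    have hcl : ∀ Q' : Subgroup G, Q' ≤ centralizer (Z i' : Set G) → Q' ≤ H' := fun Q' hQ' =>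
      hQ'.trans (centralizer_le_normalizer _)
    have hZX : Z i' ≤ zc (lev (S : Subgroup G) j) := ((h.ln.fr.Z_le i').trans h.ln.fr.ZJV).trans
      (h.ln.fr.VX.trans ((lev_isLev (S : Subgroup G) j).zc_le_zc (lev_mono _ h.jn) (lev_le _ n)))
    have hKc : ∀ l : {l // σ l}, K l ≤ H' := fun l => hcl _ fun k hk => mem_centralizer_iff.2 fun z hz =>
      ((h.yk.memN l z (hZX hz)).1 (hσ l l.2 hz) k hk).symm
    have hΓH : Γ ≤ H' := by
      refine sup_le (hcl _ fun l hl => mem_centralizer_iff.2 fun z hz => ?_) (iSup_le hKc)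
      exact (h.ln.fr.LC i l hl z (h.ln.fr.Z_le i' hz)
        (h.ln.fr.WjC i i' hi.symm ((h.ln.fr.blk i').ZV hz))).symm
    have hUz : U ≤ zc (o2 H') := UU_le_zc (B₀ := LevB.BL (S : Subgroup G) j) (K := fun l : {l // σ l} => K l)
      (fun l => by
        obtain ⟨N1, N0, r, hp⟩ := h.yk.pb l
        exact hp.block h.wn) hKc hΓH (isPGroup_o2 H') (le_normalizer_o2 H') hc' fun l => h.V_sq l
    have hU2 : IsElementaryAbelian 2 U :=
      PLocal.OffenderStep.isElementaryAbelian_of_comm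
        (fun x hx y hy => (mem_zc.1 (hUz hy)).2.2 x (mem_zc.1 (hUz hx)).1) fun x hx => (mem_zc.1 (hUz hx)).2.1
    have hUX : U ≤ centralizer (zc (lev (S : Subgroup G) j) : Set G) :=
      UU_cent (K := fun l : {l // σ l} => K l) (elem_comm hU2) (fun l => h.V_cent l) (h.LX i) hΓ
        fun l k hk x hx => h.V_act l hk hx
    have hUB : U ≤ LevB.BL (S : Subgroup G) j := by
      have h1 : IsPGroup 2 (LevB.BL (S : Subgroup G) j ⊔ U : Subgroup G) :=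
        IsPGroup.to_sup_of_normal_right' hb.Bp ((isPGroup_o2 H').to_le (hUz.trans (zc_le _)))
          ((h.BjL i).trans (hLΓ.trans hUn))
      have h2 := hb.syl.2.2 (LevB.BL (S : Subgroup G) j ⊔ U) (sup_le hb.Bc hUX) h1 le_sup_left
      rw [← h2]
      exact le_sup_right
    have hUT : U ≤ T := hUB.trans hBjT
    have hfm := BlOf.fm_neg (S := T) (H := Γ) hU2 (by rw [hbau]; exact hUB) hUn
    rw [hbau, ← hzz] at hfm
    refine ⟨_, fin _ hU2 hfm fun A hA g hg => BlOf.famA_cj hA (hUn (hLΓ hg)) ?_ hUT⟩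
    have h3 : A ≤ Q := (BlOf.famA_le hA).trans (by
      rw [hjj]
      exact h.levQ (Nat.zero_le n))
    have h4 := cj_mono g h3
    rw [cj_eq_of_mem_normalizer (h.LQ i hg)] at h4
    exact h4.trans h.QT
  · -- stages `m + 1`
    obtain ⟨m, rfl⟩ := Nat.exists_eq_succ_of_ne_zero hpos.ne'
    have hleT : lev (S : Subgroup G) (m + 1) ≤ T := hle
    have hL := isLev_T S hT2 ((lev_le_succ _ m).trans hleT)
    have hnx := nxt_lev S hT2 hleT
    have hKo := hlow m (Nat.lt_succ_self m)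
    have hYK : Y ≤ normalizer (lev (S : Subgroup G) m : Set G) := hL.le_norm_of_o2 hKo (o2_le_syl h.syl)
    have hΓK : Γ ≤ normalizer (lev (S : Subgroup G) m : Set G) :=
      sup_le (h.LK i ((Nat.le_succ m).trans h.jn)) (iSup_le fun l => (h.yk.KY l).trans hYK)
    have hVz : zl T Y ≤ zc (lev (S : Subgroup G) m) :=
      (MinSimple.VModule.zl_le_zc h.syl.1 hT2 (syl_not_dvd h.syl) h.char2).trans (hL.zc_o2_le hKo (o2_le_syl h.syl))
    have hUz : U ≤ zc (lev (S : Subgroup G) m) := by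
      refine UU_le (fun l => ?_) (hΓK.trans (NO3S.Level.normalizer_le_zc _))
      obtain ⟨N1, N0, r, hp⟩ := h.yk.pb l
      exact hp.VN.trans ((h.yk.EY l).trans hVz)
    have hU2 : IsElementaryAbelian 2 U := PLocal.ThompsonJ.isElementaryAbelian_mono (NO3S.OneLine.zc_elem _) hUz
    have hfm := BlOf.fm_lev (H := Γ) hL hUz hΓK
    rw [hnx, hb.inf_eq hT2 hBjT] at hfm
    refine ⟨_, fin _ hU2 hfm fun A hA g hg => BO.conj hA (h.LK i ((Nat.le_succ m).trans h.jn) hg) ?_⟩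
    have h3 : A ≤ Q := by
      have h4 := BO.le_nxt hA
      rw [hnx] at h4
      exact h4.trans (h.levQ h.jn)
    have h4 := cj_mono g h3
    rw [cj_eq_of_mem_normalizer (h.LQ i hg)] at h4
    exact h4.trans h.QT

end Inp

end Cfsg.Agent.Omega.OM.LowV

end

section


/-!
# `QV` over the frame `LnV`
-/

set_option autoImplicit false
set_option linter.unusedSectionVars false

namespace Cfsg.Agent.Omega.OM.LowV

open Subgroup Cfsg Cfsg.Agent.ZN.ChoiceBase Cfsg.Agent.ZN.ChoiceSit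
open Cfsg.Agent.ZN (jj zj bau zc zl o2)
open Cfsg.Agent.Omega.OM.SwapL (ZL)
open Cfsg.Agent.Omega.OM.SwapV.Lv (LnV)
open Cfsg.Agent.Omega.OM.Lev.Low
open Cfsg.Agent.Omega.NO3S.Level (lev lev_mono lev_isLev Lev lev_le)

universe u

variable {G : Type u} [Group G] [Finite G] {ι : Type} [Finite ι] {S : Sylow 2 G} {V Q : Subgroup G} {n : ℕ}
  {L W Z C A : ι → Subgroup G}

/-- **`QV`** -/
theorem qv (h : LnV S V Q n L W Z C A) {T : Subgroup G} (hT : IsPGroup 2 T)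
    (hB : SwapL.BL (S : Subgroup G) n ≤ T) {j : ℕ} (hj : j ≤ n) :
    YB.QV T (zc (lev (S : Subgroup G) j)) Q V where
  QT := h.fr.QB.trans hB
  TQ := by
    intro t ht
    have h1 := (SwapL.lb S n).two_le hT hB ht
    have h2 := SwapV.Lv.two_norm h hT hB ht
    have e : Q = SwapL.BL (S : Subgroup G) n ⊓ centralizer (V : Set G) := by
      ext x
      rw [mem_inf, mem_centralizer_iff]
      constructor
      · intro hx
        exact ⟨h.fr.QB hx, fun v hv => ((h.fr.mem_Q x (h.fr.QB hx)).1 hx v hv).symm⟩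
      · rintro ⟨hx, hx'⟩
        exact (h.fr.mem_Q x hx).2 fun v hv => (hx' v hv).symm
    rw [mem_normalizer_iff_cj, e, cj_inf, cj_centralizer, cj_eq_of_mem_normalizer h1, cj_eq_of_mem_normalizer h2]
  mem := by
    intro x
    have hVX : V ≤ zc (lev (S : Subgroup G) j) :=
      h.fr.VX.trans ((lev_isLev (S : Subgroup G) j).zc_le_zc (lev_mono _ hj) (lev_le _ n))
    constructor
    · exact fun hx => ⟨hVX hx, fun q hq => (h.fr.mem_Q q (h.fr.QB hq)).1 hq x hx⟩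
    · rintro ⟨hx, hxQ⟩
      have h3 : x ∈ Q := ((lev_mono _ hj).trans h.levQ) (mem_zc.1 hx).1
      exact h.fr.zcQ x h3 (mem_zc.1 hx).2.1 fun y hy => (hxQ y hy).symm
  two := hT

end Cfsg.Agent.Omega.OM.LowV

end

section


/-!
# TEXT LL v2 (helper584 #20624), (4) + (5) + (W), `q = 2`, over the frame `LnV`

`wide` : if `Y` moves `Ω₁Z(T)`, then for every block `K l` of `Y` two elements of `V` have different nontrivial
components at `l`.
-/

set_option autoImplicit false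
set_option linter.unusedSectionVars false

namespace Cfsg.Agent.Omega.OM.LowV

open Subgroup Cfsg Cfsg.Agent.ZN.ChoiceBase Cfsg.Agent.ZN.ChoiceSit
open Cfsg.Agent.ZN (jj zj bau zc zl o2)
open Cfsg.Agent.Omega.SQ1.Bau (elem_comm elem_sq)
open Cfsg.Agent.Omega.OM.SwapL (ZL)
open Cfsg.Agent.Omega.OM.SwapV.Lv (LnV)
open Cfsg.Agent.Omega.OM.Lev.Low
open Cfsg.Agent.Omega.OM.LevB (lb zc_B nxt_lev isLev_T bz_lev)
open Cfsg.Agent.Omega.NO3S.Level (lev lev_mono lev_isLev Lev BO nxt lev_le_succ lev_le)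
open Cfsg.Agent.Omega.OM.Lev.Low.Five (Set5)
open Cfsg.Agent.Omega.OM.Lev.Low.YB
open Cfsg.Agent.Omega.OM.Lev.Low.WDead (tri_of)
open scoped commutatorElement

universe u

variable {G : Type u} [Group G] [Finite G] {ι Λ : Type} {S : Sylow 2 G} {V Q : Subgroup G} {n : ℕ}
  {L W Z C A : ι → Subgroup G} {T Y : Subgroup G} {j : ℕ} {K E N c : Λ → Subgroup G}

namespace Inp

variable (h : Inp S V Q n L W Z C A T Y j K E N c)
include h

theorem qv [Finite ι] : QV T (zc (lev (S : Subgroup G) j)) (Q) (V) :=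
  LowV.qv h.ln h.syl.2.1 h.BT h.jn

/-- `|π_l(V)| ≤ 2` for one `l` implies it for all `l` -/
theorem hf [Finite ι] {l₀ : Λ} (hl : ∀ v ∈ V, ∀ v' ∈ V, v ∉ N l₀ → v' ∉ N l₀ →
    v * v' ∈ N l₀) : Hf T (zc (lev (S : Subgroup G) j)) (Q) (V) N c where
  yb := h.yk.yb
  qv := h.qv
  half := by
    intro l v hv v' hv' hn hn'
    obtain ⟨t, ht, hm⟩ := h.yk.tr l l₀
    have h1 := hl (t * v * t⁻¹) (QV.memV h.yk.yb h.qv ht hv) (t * v' * t⁻¹) (QV.memV h.yk.yb h.qv ht hv')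
      (fun h2 => hn (hm.cen.1 h2)) fun h2 => hn' (hm.cen.1 h2)
    have e : t * v * t⁻¹ * (t * v' * t⁻¹) = t * (v * v') * t⁻¹ := by group
    rw [e] at h1
    exact hm.cen.1 h1

/-- `Ω₁Z(T)` is nontrivial at all `l` -/
theorem zc_all {l : Λ} (hl : ¬ zc T ≤ N l) (m : Λ) : ¬ zc T ≤ N m := by
  intro hm
  obtain ⟨z, hz, hzl⟩ := SetLike.not_le_iff_exists.1 hl
  obtain ⟨t, ht, hlm⟩ := h.yk.tr l m
  have h1 := (mem_zc.1 hz).2.2 t ht
  have e : t * z * t⁻¹ = z := by rw [h1]; group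
  refine hzl (hlm.cen.1 ?_)
  rw [e]
  exact hm hz

/-- **(4), (W)** -/
theorem no_two [Finite ι] [Finite Λ] {l₀ : Λ} (hZ : ¬ zc T ≤ N l₀)
    (hl : ∀ v ∈ V, ∀ v' ∈ V, v ∉ N l₀ → v' ∉ N l₀ → v * v' ∈ N l₀) : False := by
  have k := h.hf hl
  have fr := h.ln.fr
  have hBT := h.BT
  -- `z i`
  obtain ⟨i, hi⟩ : ∃ i, ¬ Z i ≤ N l₀ := by
    by_contra hcon
    push Not at hcon
    exact hZ ((zc_T_le S h.syl.2.1 hBT).trans (zj_le fr hcon))
  obtain ⟨z, hz, hzl⟩ := SetLike.not_le_iff_exists.1 hi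
  have hz1 : z ≠ 1 := fun e => hzl (e ▸ one_mem _)
  obtain ⟨i', hi'⟩ := h.two i
  have hane := fr.Ane i
  push Not at hane
  obtain ⟨b, hb, v₁, hv₁, hne⟩ := hane
  have r := rt fr hBT hb fun h1 => hne (h1 v₁ hv₁)
  obtain ⟨m₀, hm⟩ := k.yb.perm b r.bT l₀
  have hml := k.moves r hm hz hzl
  obtain ⟨y, hy, hyp, hyl⟩ := k.yb.exists_single k.qv l₀
  have e1 := k.eq_z r (fun z hz z' hz' h1 h2 => UniPlus.eq_of_card_two (fr.cardZ i) hz hz' h1 h2) hm hz hz1 hml hy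
    hyp hyl
  have hsupp : ∀ l', z ∉ N l' ↔ l' ∈ Orb (Q) N c l₀ ∨ l' ∈ Orb (Q) N c m₀ := fun l' => by
    rw [e1]; exact k.supp r.bT hm hml hy hyp hyl
  obtain ⟨v, hv, y', hy'Z, hy'C, hyv, hy'N⟩ := k.exists_dec fr hBT hz hzl hy hyp
  -- the blocks in the support centralise `Z i'`
  have hσ : ∀ l, z ∉ N l → Z i' ≤ N l := fun l hl' w hw => by
    by_contra hw'
    exact k.disj fr hBT (Ne.symm hi') hz hw hl' hw'
  -- `B` is transitive on the support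
  have hbB : b ∈ SwapL.BL (S : Subgroup G) n := fr.AB i hb
  have htr0 : ∀ l, z ∉ N l → ∃ g ∈ SwapL.BL (S : Subgroup G) n, Mv N c g l₀ l := by
    intro l hl'
    rcases (hsupp l).1 hl' with ⟨q, hq, h1⟩ | ⟨q, hq, h1⟩
    · exact ⟨q, fr.QB hq, h1⟩
    · exact ⟨q * b, mul_mem (fr.QB hq) hbB, h1.mul hm⟩
  have htr1 : ∀ l m : {l // z ∉ N l}, ∃ g ∈ SwapL.BL (S : Subgroup G) n, Mv N c g (l : Λ) m := by
    intro l m
    obtain ⟨g, hg, h1⟩ := htr0 l l.2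
    obtain ⟨g', hg', h2⟩ := htr0 m m.2
    exact ⟨g' * g⁻¹, mul_mem hg' (inv_mem hg), h2.mul h1.inv⟩
  have hBL : SwapL.BL (S : Subgroup G) n ≤ L i := (fr.blk i).BL
  obtain ⟨AA, X⟩ := h.exists_set5 i hi' (fun l => z ∉ N l) hσ fun l m => by
    obtain ⟨g, hg, h1⟩ := htr1 l m
    exact ⟨g, hBL hg, h.yk.mv g (hBT hg) _ _ h1⟩
  -- the three elements of `W i`
  have hnb := SwapL.nb fr i
  have h4 : Nat.card (W i) = 4 := by rw [(fr.blk i).card, fr.cardZ i]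
  have hbz : b * z = z * b := (fr.blk i).cZ b hbB z hz
  obtain ⟨w, hw2, kt, hall⟩ := tri_of (P := L i) (L := L i) (Vi := W i) h4 (fr.blk i).el
    (fun l hl' => mem_normalizer_of_cj_le (by
      rintro _ ⟨x, hx, rfl⟩
      exact (fr.blk i).nV l hl' x hx)) le_rfl (fun x hx x' hx' hx1 hx1' => by
        obtain ⟨g, hg, s, hs, e⟩ := UniPlus.cover_two hnb hx
        obtain ⟨g', hg', s', hs', e'⟩ := UniPlus.cover_two hnb hx'
        have e2 : g * s * g⁻¹ = x := e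
        have e2' : g' * s' * g'⁻¹ = x' := e'
        have hs1 : s ≠ 1 := fun e3 => hx1 (by rw [← e2, e3]; group)
        have hs1' : s' ≠ 1 := fun e3 => hx1' (by rw [← e2', e3]; group)
        have e4 := UniPlus.eq_of_card_two (fr.cardZ i) hs hs' hs1 hs1'
        refine ⟨g' * g⁻¹, mul_mem hg' (inv_mem hg), ?_⟩
        rw [← e2, ← e2', ← e4]
        group) ((fr.blk i).ZV hz) hz1 (t := b) (hBL hbB) hbz (fun h5 => hne (mem_centralizer_iff.1 h5 v₁ hv₁).symm)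
    (y' := y') (fun g hg => fr.LC i g hg y' hy'Z hy'C) fun u hu => fr.Vc (fr.ZJV hy'Z) (fr.WV i hu)
  have hzX : z ∈ zc (lev (S : Subgroup G) j) := h.qv.VX (fr.ZV i hz)
  have hyX : y' ∈ zc (lev (S : Subgroup G) j) := h.qv.VX (fr.ZJV hy'Z)
  have hwV : ∀ a, w a ∈ V := by
    intro a
    have h5 : ∀ a, ∃ g ∈ L i, g * w 2 * g⁻¹ = w a := fun a => by
      obtain ⟨g, hg, -, h6⟩ := kt.ex (Equiv.swap 2 a)
      exact ⟨g, hg, by rw [h6, Equiv.swap_apply_left]⟩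
    obtain ⟨g, hg, e⟩ := h5 a
    rw [← e, hw2]
    exact fr.LV i g hg z (fr.ZV i hz)
  -- `v`
  have hv1 : v ≠ 1 := by
    rintro rfl
    rw [one_mul] at hyv
    exact hyl (by rw [hyv]; exact hy'N l₀ hzl)
  have hvz : v ≠ z := by
    rintro rfl
    have h5 : b * y = y * b := by
      rw [hyv]
      have c1 : Commute b v := hbz
      have c2 : Commute b y' := ((fr.mem_ZJ y').1 hy'Z).2 b hbB
      exact (c1.mul_right c2).eq
    have h6 : b * y * b⁻¹ = y := by rw [h5]; group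
    rw [h6, k.yb.mul_self (k.qv.VX hy)] at e1
    exact hz1 e1
  have hv01 : v = w 0 ∨ v = w 1 := by
    obtain ⟨a, ha⟩ := hall v hv hv1
    have h5 : ∀ a : Fin 3, a = 0 ∨ a = 1 ∨ a = 2 := by decide
    rcases h5 a with rfl | rfl | rfl
    · exact Or.inl ha
    · exact Or.inr ha
    · exact absurd (ha.trans hw2) hvz
  -- lines
  have hQT := h.QT
  have hline : ∀ p : Set Λ, Cp c p ≤ ⨆ l ∈ p, ⁅(⁅E l, K l⁆ : Subgroup G), LevB.BL (S : Subgroup G) j⁆ := fun p =>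
    iSup₂_mono fun l _ => by
      obtain ⟨N1, N0, r', hp⟩ := h.yk.pb l
      rw [hp.VB_eq]
      exact h.yk.line l
  have hl0' : z ∉ N l₀ := hzl
  refine X.no_two' kt (h.QL i) (h.QT.trans h.TBj) (h.LQ i) (fun q hq a => fr.cQ hq (hwV a)) ?_ ?_ ?_ ?_
    (σ := fun l => (l : Λ) ∈ Orb (Q) N c l₀) ⟨⟨l₀, hzl⟩, self_mem _ _⟩ ?_ ?_ ?_ ?_ hyv hv01 ?_
  · -- `trP`
    intro l m
    obtain ⟨g, hg, h5⟩ := htr1 l m
    exact ⟨g, hBL hg, h.TBj (hBT hg), h.yk.mv g (hBT hg) _ _ h5⟩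
  · -- `cK`
    intro l m hlm x hx
    obtain ⟨N1, N0, r', hp⟩ := h.yk.pb l
    have h5 : x ∈ ⁅E (l : Λ), LevB.BL (S : Subgroup G) j⁆ := by rw [← hp.VB_eq]; exact hx
    have h6 : x ∈ zc (lev (S : Subgroup G) j) := by
      have h7 := (X.c_le l) hx
      exact h7.2
    exact (h.mem_cK h6).1 (h.yk.cross l m (fun e => hlm (Subtype.ext e)) h5)
  · -- `hz`
    rw [hw2]
    have h5 : y ∈ sSup (Set.range fun l : {l // z ∉ N l} =>
        ⁅(⁅E (l : Λ), K (l : Λ)⁆ : Subgroup G), LevB.BL (S : Subgroup G) j⁆) := by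
      refine (iSup₂_le fun l hl' => ?_ : (⨆ l ∈ Orb (Q) N c l₀,
        ⁅(⁅E l, K l⁆ : Subgroup G), LevB.BL (S : Subgroup G) j⁆) ≤ _) (hline _ hyp)
      exact le_sSup ⟨⟨l, (hsupp l).2 (Or.inl hl')⟩, rfl⟩
    have h6 : b * y * b⁻¹ ∈ sSup (Set.range fun l : {l // z ∉ N l} =>
        ⁅(⁅E (l : Λ), K (l : Λ)⁆ : Subgroup G), LevB.BL (S : Subgroup G) j⁆) := by
      refine (iSup₂_le fun l hl' => ?_ : (⨆ l ∈ Orb (Q) N c m₀,
        ⁅(⁅E l, K l⁆ : Subgroup G), LevB.BL (S : Subgroup G) j⁆) ≤ _) (hline _ (k.cj_mem r.bT hm hyp))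
      exact le_sSup ⟨⟨l, (hsupp l).2 (Or.inr hl')⟩, rfl⟩
    have h7 := mul_mem h5 h6
    rwa [← e1] at h7
  · -- `hz'`
    intro l hcon
    rw [hw2] at hcon
    exact l.2 ((h.mem_cK hzX).2 hcon)
  · -- another orbit
    exact ⟨⟨m₀, (hsupp m₀).2 (Or.inr (self_mem _ _))⟩, hml⟩
  · -- `hQ`
    intro q hq l
    obtain ⟨m, hlm⟩ := k.yb.perm q (hQT hq) l
    have h5 : (l : Λ) ∈ Orb (Q) N c l₀ ↔ m ∈ Orb (Q) N c l₀ := orb_inv l₀ q hq l m hlm
    have h6 : (l : Λ) ∈ Orb (Q) N c m₀ ↔ m ∈ Orb (Q) N c m₀ := orb_inv m₀ q hq l m hlm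
    refine ⟨⟨m, (hsupp m).2 ?_⟩, h5, h.yk.mv q (hQT hq) _ _ hlm⟩
    rcases (hsupp l).1 l.2 with h7 | h7
    · exact Or.inl (h5.1 h7)
    · exact Or.inr (h6.1 h7)
  · -- `hQ'`
    intro l m hlm
    have h5 : (m : Λ) ∈ Orb (Q) N c l := by
      by_cases h6 : (l : Λ) ∈ Orb (Q) N c l₀
      · exact orb_trans (orb_symm h6) (hlm.1 h6)
      · have h7 := ((hsupp l).1 l.2).resolve_left h6
        have h8 := ((hsupp m).1 m.2).resolve_left fun h9 => h6 (hlm.2 h9)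
        exact orb_trans (orb_symm h7) h8
    obtain ⟨q, hq, h6⟩ := h5
    exact ⟨q, hq, h.yk.mv q (hQT hq) _ _ h6⟩
  · -- `hy`
    refine (iSup₂_le fun l hl' => ?_ : (⨆ l ∈ Orb (Q) N c l₀,
      ⁅(⁅E l, K l⁆ : Subgroup G), LevB.BL (S : Subgroup G) j⁆) ≤ _) (hline _ hyp)
    exact le_sSup ⟨⟨l, (hsupp l).2 (Or.inl hl')⟩, hl', rfl⟩
  · -- `hy'`
    intro l
    exact (h.mem_cK hyX).1 (hy'N l l.2)

/-- **Two elements of `V` with different nontrivial components at `l`.** -/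
theorem wide [Finite ι] [Finite Λ] (hZ : ∃ l, ¬ zc T ≤ N l) (l : Λ) :
    ∃ v ∈ V, ∃ a ∈ c l, a * v ∈ N l ∧ a ≠ 1 ∧
      ∃ v' ∈ V, ∃ a' ∈ c l, a' * v' ∈ N l ∧ a' ≠ 1 ∧ a ≠ a' := by
  by_contra hcon
  push Not at hcon
  obtain ⟨l₁, hl₁⟩ := hZ
  refine h.no_two (h.zc_all hl₁ l) fun v hv v' hv' hn hn' => ?_
  obtain ⟨a, ha, h1⟩ := h.yk.yb.fix l v (h.qv.VX hv)
  obtain ⟨a', ha', h1'⟩ := h.yk.yb.fix l v' (h.qv.VX hv')
  have ha1 : a ≠ 1 := fun e => hn (by rwa [e, one_mul] at h1)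
  have ha1' : a' ≠ 1 := fun e => hn' (by rwa [e, one_mul] at h1')
  have h2 := hcon v hv a ha h1 ha1 v' hv' a' ha' h1' ha1'
  subst h2
  have h3 := mul_mem (inv_mem h1) h1'
  have e : (a * v)⁻¹ * (a * v') = v⁻¹ * v' := by group
  rw [e, h.yk.yb.inv_eq (h.qv.VX hv)] at h3
  exact h3

end Inp

end Cfsg.Agent.Omega.OM.LowV

end
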