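import Cfsg.Agent.Mrg.Omega.OM.Lev.Low.Full
import Cfsg.Agent.Mrg.Omega.OM.SwapV.Lv.Frame
import Cfsg.Agent.Mrg.Omega.OM.Lev.Low.Sub
import Cfsg.Agent.Mrg.Omega.OM.LowV.Out
import Cfsg.Agent.Mrg.Omega.OM.LowV.LinV

section


/-!
# TORUS, `q = 2`: (L) and (W) over the frame `LnV`

* `full_one` : (W) for one conjugation with `L l`;
* `lineZ` : `c = W l` and `Z m ≤ N`, `m ≠ l`, over `FrL` (no `Tr`);
* `full_norm`, `cent`, `full_of_conj` : **(W)** over `LnV`;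
* `lineZ_yb`, `line_yb` : (L) for a fixed line.
-/

set_option autoImplicit false
set_option linter.unusedSectionVars false
set_option linter.unusedVariables false

namespace Cfsg.Agent.Omega.OM.LowV

open Subgroup Cfsg Cfsg.Agent.ZN.ChoiceBase Cfsg.Agent.ZN.ChoiceSit
open Cfsg.Agent.ZN (jj zj bau zc zl o2)
open Cfsg.Agent.Omega.OM.Lev.Uni (FrL)
open Cfsg.Agent.Omega.OM.SwapL (ZL BL)
open Cfsg.Agent.Omega.OM.SwapV.Lv (LnV)
open Cfsg.Agent.Omega.OM.Lev.Low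
open Cfsg.Agent.Omega.OM.Lev.Low.Line
open Cfsg.Agent.Omega.NO3S.Level (lev)

universe u

section base

variable {G : Type u} [Group G] {ι : Type} {B Q V X ZJ : Subgroup G} {L W Z C A : ι → Subgroup G}
  (h : FrL B Q V X ZJ L W Z C A 2)
include h

/-- (W) for an element `w d`, `w ∈ W l`, `d ∈ Z_J ∩ C l` -/
theorem full_one [Finite G] (hW : ∀ z ∈ ZJ, ∀ g : G, g * z * g⁻¹ ∈ ZJ → Full C z → Full C (g * z * g⁻¹)) {z0 g w d : G} {l : ι}
    (hz0 : z0 ∈ ZJ) (hf : Full C z0) (hw : w ∈ W l) (hd : d ∈ ZJ) (hdC : d ∈ C l) (e : g * z0 * g⁻¹ = w * d) :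
    Full C (g * z0 * g⁻¹) := by
  by_cases hw1 : w = 1
  · refine hW z0 hz0 g ?_ hf
    rw [e, hw1, one_mul]
    exact hd
  · have hnb := SwapL.nb h l
    obtain ⟨x, hx, s, hs, e1⟩ := UniPlus.cover_two hnb hw
    have e2 : x * s * x⁻¹ = w := e1
    have hs1 : s ≠ 1 := by
      rintro rfl
      apply hw1
      rw [← e2]
      simp
    have hxd : x * d = d * x := h.LC l x hx d hd hdC
    have e3 : (x⁻¹ * g) * z0 * (x⁻¹ * g)⁻¹ = s * d := by
      calc (x⁻¹ * g) * z0 * (x⁻¹ * g)⁻¹ = x⁻¹ * (g * z0 * g⁻¹) * x := by group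
        _ = x⁻¹ * (x * s * x⁻¹ * d) * x := by rw [e, e2]
        _ = s * x⁻¹ * (d * x) := by group
        _ = s * d := by rw [← hxd]; group
    have hf1 := hW z0 hz0 (x⁻¹ * g) (by rw [e3]; exact mul_mem (h.Z_le l hs) hd) hf
    rw [e3] at hf1
    intro i hi
    rw [e] at hi
    by_cases hil : i = l
    · subst hil
      exact hw1 (one_of h hw ((mul_mem_cancel_right hdC).1 hi))
    · rw [mul_mem_C h hil hw] at hi
      exact hf1 i (by rw [mul_mem_C h hil (ZW h l hs)]; exact hi)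

/-- **(L)** without `Tr` -/
theorem lineZ [Finite G] [Finite ι]
    (hW : ∀ z ∈ ZJ, ∀ g : G, g * z * g⁻¹ ∈ ZJ → Full C z → Full C (g * z * g⁻¹))
    {c N : Subgroup G} (hcV : c ≤ V) (hc4 : Nat.card c = 4) (hfix : ∀ x ∈ X, ∃ a ∈ c, a * x ∈ N)
    (htriv : c ⊓ N = ⊥) (hBc : ∀ b ∈ B, ∀ x ∈ c, b * x * b⁻¹ ∈ c) (hBN : ∀ b ∈ B, ∀ x ∈ N, b * x * b⁻¹ ∈ N)
    (hZJ : ¬ ZJ ≤ N) {τ : G} (hτc : ∀ x ∈ c, τ * x * τ⁻¹ ∈ c) (hτ1 : ∀ x ∈ c, τ * x * τ⁻¹ = x → x = 1)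
    (hτN : ∀ x ∈ N, τ * x * τ⁻¹ = x) :
    ∃ l, c = W l ∧ ∀ m, m ≠ l → Z m ≤ N := by
  classical
  -- a root element which centralises `c` has its `Z i` in `N`
  have key1 : ∀ i, (∀ t ∈ A i, ∀ x ∈ c, t * x = x * t) → Z i ≤ N := by
    intro i hi z hz
    have hne := h.Ane i
    push Not at hne
    obtain ⟨t, ht, w0, hw0, hne⟩ := hne
    obtain ⟨w, hw, e⟩ := exists_comm h (h.AB i ht) (fun hh => hne (hh w0 hw0)) hz
    have hwV : w ∈ V := h.WV i hw
    obtain ⟨a, ha, haN⟩ := hfix w (h.VX hwV)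
    have haV := hcV ha
    have h1 := hBN t (h.AB i ht) _ haN
    have h2 := mul_mem haN h1
    have hta : t * a * t⁻¹ = a := mul_inv_eq_iff_eq_mul.2 (hi t ht a ha)
    have htw : t * w * t⁻¹ ∈ V := h.LV i t ((h.blk i).BL (h.AB i ht)) w hwV
    have e1 : a * w * (t * (a * w) * t⁻¹) = w * (t * w * t⁻¹) := by
      have e2 : t * (a * w) * t⁻¹ = a * (t * w * t⁻¹) := by
        calc t * (a * w) * t⁻¹ = (t * a * t⁻¹) * (t * w * t⁻¹) := by group
          _ = _ := by rw [hta]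
      rw [e2]
      calc a * w * (a * (t * w * t⁻¹)) = a * (w * a) * (t * w * t⁻¹) := by group
        _ = (a * a) * w * (t * w * t⁻¹) := by rw [mc h hwV haV]; group
        _ = _ := by rw [mi h haV, one_mul]
    rwa [e1, e] at h2
  -- (1)
  obtain ⟨l, t, ht, x0, hx0, hne⟩ : ∃ l, ∃ t ∈ A l, ∃ x ∈ c, t * x ≠ x * t := by
    by_contra hcon
    push Not at hcon
    exact hZJ (zj_le h fun i => key1 i fun t ht x hx => hcon i t ht x hx)
  -- (2)
  have hxV := hcV hx0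
  have h1 : t * x0 * t⁻¹ * x0⁻¹ ∈ Z l := h.A_comm ht hxV
  have h2 : t * x0 * t⁻¹ * x0⁻¹ ∈ c := mul_mem (hBc t (h.AB l ht) x0 hx0) (inv_mem hx0)
  have h3 : t * x0 * t⁻¹ * x0⁻¹ ≠ 1 := fun e => hne (mul_inv_eq_iff_eq_mul.1 (mul_inv_eq_one.1 e))
  have hZc : Z l ≤ c := by
    intro z hz
    by_cases hz1 : z = 1
    · rw [hz1]; exact one_mem _
    · rw [Z_two h hz hz1 h1 h3]; exact h2
  obtain ⟨zl, hzl, hzl1⟩ := exists_z h l
  -- (3)
  have hidx : ((Z l).subgroupOf c).index = 2 := by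
    have e1 := Subgroup.card_mul_index ((Z l).subgroupOf c)
    have e2 : Nat.card ((Z l).subgroupOf c) = 2 := by
      rw [Nat.card_congr (subgroupOfEquivOfLe hZc).toEquiv, h.cardZ l]
    rw [e2, hc4] at e1
    omega
  have h4 : ∀ b ∈ B, ∀ x ∈ c, b * x * b⁻¹ * x⁻¹ ∈ Z l := by
    intro b hb x hx
    have hbx := hBc b hb x hx
    by_cases hxZ : x ∈ Z l
    · rw [(h.blk l).cZ b hb x hxZ]
      simp [one_mem]
    · have hbxZ : b * x * b⁻¹ ∉ Z l := by
        intro h5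
        apply hxZ
        have h6 := (h.blk l).cZ b hb _ h5
        have e : x = b * x * b⁻¹ := by
          have h7 : b * x = b * (b * x * b⁻¹) := by rw [h6]; group
          exact mul_left_cancel h7
        rw [e]; exact h5
      have h5 := Subgroup.mul_mem_iff_of_index_two hidx (a := ⟨b * x * b⁻¹, hbx⟩) (b := ⟨x, hx⟩⁻¹)
      have h6 : ((⟨b * x * b⁻¹, hbx⟩ * ⟨x, hx⟩⁻¹ : c) : G) = b * x * b⁻¹ * x⁻¹ := rfl
      rw [mem_subgroupOf, mem_subgroupOf, mem_subgroupOf, h6] at h5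
      refine h5.2 (iff_of_false hbxZ ?_)
      intro h7
      exact hxZ (by simpa using h7)
  -- (4)
  have h5 : ∀ x ∈ c, ∃ w ∈ W l, ∃ b ∈ C l, b ∈ ZJ ∧ x = w * b := by
    intro x hx
    obtain ⟨w, hw, b', hb', rfl⟩ := h.WC l x (hcV hx)
    refine ⟨w, hw, b', hb', (h.mem_ZJ b').2 ⟨h.CV l hb', fun b hb => ?_⟩, rfl⟩
    have h6 := h4 b hb _ hx
    have h7 := (h.blk l).BV hb hw
    have h8 := h.BC l b hb b' hb'
    have e : b * (w * b') * b⁻¹ * (w * b')⁻¹ = (b * w * b⁻¹ * w⁻¹) * (b * b' * b⁻¹ * b'⁻¹) := by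
      have c1 := mc h (h.WV l hw) (h.CV l (mul_mem h8 (inv_mem hb')))
      calc b * (w * b') * b⁻¹ * (w * b')⁻¹ = (b * w * b⁻¹) * ((b * b' * b⁻¹ * b'⁻¹) * w⁻¹) := by group
        _ = (b * w * b⁻¹) * (w⁻¹ * (b * b' * b⁻¹ * b'⁻¹)) := by
          rw [mc h (h.CV l (mul_mem h8 (inv_mem hb'))) (inv_mem (h.WV l hw))]
        _ = _ := by group
    rw [e] at h6
    have h9 : b * b' * b⁻¹ * b'⁻¹ ∈ W l :=
      (mul_mem_cancel_left (mul_mem h7 (inv_mem hw))).1 (ZW h l h6)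
    have h10 := one_of h h9 (mul_mem h8 (inv_mem hb'))
    exact mul_inv_eq_iff_eq_mul.1 (mul_inv_eq_one.1 h10)
  -- (5)
  have h6 : ∀ m, m ≠ l → Z m ≤ N := by
    intro m hm
    refine key1 m fun s hs x hx => ?_
    obtain ⟨w, hw, b, hb, hbZ, rfl⟩ := h5 x hx
    have c1 : Commute s w := h.AC m s hs w (h.WjC m l hm hw)
    have c2 : Commute s b := ((h.mem_ZJ b).1 hbZ).2 s (h.AB m hs)
    exact (c1.mul_right c2).eq
  -- (6)
  obtain ⟨z0, hz0, hz0f⟩ := exists_full h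
  obtain ⟨y, hy, c0, hc0, hc0Z, ez0⟩ := h.split_ZJ l hz0
  have hy1 : y ≠ 1 := by
    rintro rfl
    apply hz0f l
    rw [ez0, one_mul]
    exact hc0
  have hc0N : c0 ∈ N := ZJ_C_le h h6 hc0Z hc0
  have hc0f : ∀ i, i ≠ l → c0 ∉ C i := fun i hi h7 => hz0f i (by
    rw [ez0, mul_mem_C h hi (ZW h l hy)]; exact h7)
  have hyc : y ∈ c := hZc hy
  have hx := hτc y hyc
  obtain ⟨w, hw, b', hb', hb'Z, ex⟩ := h5 _ hx
  have hτz : τ * z0 * τ⁻¹ = w * (b' * c0) := by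
    rw [ez0]
    calc τ * (y * c0) * τ⁻¹ = (τ * y * τ⁻¹) * (τ * c0 * τ⁻¹) := by group
      _ = w * b' * c0 := by rw [ex, hτN c0 hc0N]
      _ = _ := by group
  have hf1 := full_one h hW hz0 hz0f hw (mul_mem hb'Z hc0Z) (mul_mem hb' hc0) hτz
  have hb'1 : b' = 1 := by
    refine h.C0 b' (h.CV l hb') fun i => ?_
    by_cases hi : i = l
    · rw [hi]; exact hb'
    · by_contra hbi
      have h7 : b' * c0 ∉ C i := fun h8 => hf1 i (by
        rw [hτz, mul_mem_C h hi hw]; exact h8)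
      obtain ⟨a1, ha1, d1, hd1, e1⟩ := ZJ_cmp h hb'Z i
      obtain ⟨a2, ha2, d2, hd2, e2⟩ := ZJ_cmp h hc0Z i
      have ha1' : a1 ≠ 1 := by
        rintro rfl
        exact hbi (by rw [e1, one_mul]; exact hd1)
      have ha2' : a2 ≠ 1 := by
        rintro rfl
        exact hc0f i hi (by rw [e2, one_mul]; exact hd2)
      have e3 := Z_two h ha1 ha1' ha2 ha2'
      apply h7
      rw [e1, e2, ← e3]
      have e4 : a1 * d1 * (a1 * d2) = (a1 * a1) * (d1 * d2) := by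
        calc a1 * d1 * (a1 * d2) = a1 * (d1 * a1) * d2 := by group
          _ = a1 * (a1 * d1) * d2 := by rw [mc h (h.CV i hd1) (h.ZV i ha1)]
          _ = _ := by group
      rw [e4, mi h (h.ZV i ha1), one_mul]
      exact mul_mem hd1 hd2
  have hxW : τ * y * τ⁻¹ ∈ W l := by rw [ex, hb'1, mul_one]; exact hw
  have hx1 : τ * y * τ⁻¹ ≠ 1 := fun e => hy1 (conj_eq_one_iff.1 e)
  have hxy : τ * y * τ⁻¹ ≠ y := fun e => hy1 (hτ1 y hyc e)
  have hWl : Nat.card (W l) = 4 := by rw [(h.blk l).card, h.cardZ l]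
  have hcW : c = W l := by
    have h7 : Nat.card ↥(c ⊓ W l) ∣ 4 := by
      rw [← hc4]
      exact Subgroup.card_dvd_of_le inf_le_left
    have h8 : 2 < Nat.card ↥(c ⊓ W l) :=
      two_lt_card (one_mem _) (mem_inf.2 ⟨hyc, ZW h l hy⟩) (mem_inf.2 ⟨hx, hxW⟩) hy1.symm hx1.symm hxy.symm
    have h9 : Nat.card ↥(c ⊓ W l) = 4 := eq_four h7 h8
    have h10 : c ⊓ W l = c := Subgroup.eq_of_le_of_card_ge inf_le_left (by rw [h9, hc4])
    have h11 : c ⊓ W l = W l := Subgroup.eq_of_le_of_card_ge inf_le_right (by rw [h9, hWl])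
    rw [← h10, h11]
  exact ⟨l, hcW, h6⟩

end base

section W

variable {G : Type u} [Group G] [Finite G] {ι : Type} [Finite ι] {S : Sylow 2 G} {V Q : Subgroup G} {n : ℕ}
  {L W Z C A : ι → Subgroup G}

theorem full_norm (hL : LnV S V Q n L W Z C A) {y z : G} (hy : y ∈ normalizer (BL (S : Subgroup G) n : Set G))
    (hz : z ∈ ZL (S : Subgroup G) n) (hf : Full C z) : Full C (y * z * y⁻¹) := by
  intro j hj
  obtain ⟨i, -, -, h1⟩ := SwapV.Lv.perm hL (inv_mem hy) j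
  have h2 := (h1 _ (norm_ZL hy hz)).2 hj
  have e : y⁻¹ * (y * z * y⁻¹) * y⁻¹⁻¹ = z := by group
  rw [e] at h2
  exact hf i h2

/-- `N_G(B)` centralises the element of full support -/
theorem cent (hL : LnV S V Q n L W Z C A) {z : G} (hz : z ∈ ZL (S : Subgroup G) n) (hf : Full C z) {s : G}
    (hs : s ∈ normalizer (BL (S : Subgroup G) n : Set G)) : s * z = z * s := by
  have h2 := full_unique hL.fr (norm_ZL hs hz) hz (full_norm hL hs hz hf) hf
  exact mul_inv_eq_iff_eq_mul.1 h2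

omit [Finite ι] in
theorem S_norm_B : (S : Subgroup G) ≤ normalizer (BL (S : Subgroup G) n : Set G) :=
  (SwapL.lb S n).two_le S.isPGroup' (SwapL.lb S n).BS

/-- **(W)** -/
theorem full_of_conj (hL : LnV S V Q n L W Z C A) {z g : G}
    (hz : z ∈ ZL (S : Subgroup G) n) (hg : g * z * g⁻¹ ∈ ZL (S : Subgroup G) n) (hf : Full C z) :
    Full C (g * z * g⁻¹) := by
  have : Fact (Nat.Prime 2) := ⟨Nat.prime_two⟩
  obtain ⟨z', hz'⟩ : ∃ z', z' = g * z * g⁻¹ := ⟨_, rfl⟩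
  rw [← hz'] at hg ⊢
  have hBz : BL (S : Subgroup G) n ≤ centralizer ({z'} : Set G) := by
    intro b hb
    rw [mem_centralizer_singleton_iff]
    exact (mem_centralizer_iff.1 hb.2 z' hg).symm
  have hSz : ((g • S : Sylow 2 G) : Subgroup G) ≤ centralizer ({z'} : Set G) := by
    rw [Sylow.coe_subgroup_smul]
    rintro _ ⟨s, hs, rfl⟩
    rw [mem_centralizer_singleton_iff]
    have h1 := cent hL hz hf (S_norm_B hs)
    change g * s * g⁻¹ * z' = z' * (g * s * g⁻¹)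
    rw [hz']
    calc g * s * g⁻¹ * (g * z * g⁻¹) = g * (s * z) * g⁻¹ := by group
      _ = g * (z * s) * g⁻¹ := by rw [h1]
      _ = _ := by group
  have hB2 : IsPGroup 2 ((BL (S : Subgroup G) n).subgroupOf (centralizer ({z'} : Set G))) :=
    (SwapL.lb S n).Bp.comap_of_injective _ (Subgroup.subtype_injective _)
  obtain ⟨R, hR⟩ := hB2.exists_le_sylow
  obtain ⟨x, hx⟩ := MulAction.exists_smul_eq (centralizer ({z'} : Set G)) ((g • S).subtype hSz) R
  have h2 : BL (S : Subgroup G) n ≤ cj ((x : G) * g) (S : Subgroup G) := by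
    intro b hb
    have h3 : (⟨b, hBz hb⟩ : centralizer ({z'} : Set G)) ∈ R := hR hb
    rw [← hx] at h3
    obtain ⟨⟨c, hc⟩, hc1, e⟩ := h3
    obtain ⟨s, hs, rfl⟩ := hc1
    refine ⟨s, hs, ?_⟩
    have e2 : (x : G) * (g * s * g⁻¹) * (x : G)⁻¹ = b := congrArg Subtype.val e
    change (x : G) * g * s * ((x : G) * g)⁻¹ = b
    rw [← e2]
    group
  have h3 : cj ((x : G) * g)⁻¹ (BL (S : Subgroup G) n) ≤ (S : Subgroup G) := by
    have := cj_mono ((x : G) * g)⁻¹ h2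
    rwa [cj_inv_cj] at this
  have h4 : ((x : G) * g)⁻¹ ∈ normalizer (BL (S : Subgroup G) n : Set G) :=
    mem_normalizer_iff_cj.2 (SwapL.wc S n (S : Subgroup G) S.isPGroup' (SwapL.lb S n).BS _ h3)
  have h5 : (x : G) * g ∈ normalizer (BL (S : Subgroup G) n : Set G) := inv_mem_iff.1 h4
  have h6 := full_norm hL h5 hz hf
  have e : (x : G) * g * z * ((x : G) * g)⁻¹ = z' := by
    have h7 := mem_centralizer_singleton_iff.1 x.2
    calc (x : G) * g * z * ((x : G) * g)⁻¹ = x * (g * z * g⁻¹) * (x : G)⁻¹ := by group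
      _ = z' := by rw [← hz', h7]; group
  rwa [e] at h6

/-- **(L)** for a line of `YB` on `Ω₁Z(lev S j)`, `j ≤ n`, without `Tr`. -/
theorem lineZ_yb (hL : LnV S V Q n L W Z C A) {j : ℕ} (hj : j ≤ n) {Λ : Type*}
    {N c : Λ → Subgroup G} (hy : YB (BL (S : Subgroup G) n) (zc (lev (S : Subgroup G) j)) N c) {l : Λ}
    (hfix : ∀ b ∈ BL (S : Subgroup G) n, Mv N c b l l) (hcV : c l ≤ V)
    (hc4 : Nat.card (c l) = 4) (hZJ : ¬ ZL (S : Subgroup G) n ≤ N l) {τ : G}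
    (hτc : ∀ x ∈ c l, τ * x * τ⁻¹ ∈ c l) (hτ1 : ∀ x ∈ c l, τ * x * τ⁻¹ = x → x = 1)
    (hτN : ∀ x ∈ N l, τ * x * τ⁻¹ = x) :
    ∃ i, c l = W i ∧ ∀ m, m ≠ i → Z m ≤ N l := by
  refine lineZ hL.fr (fun _ hz _ hg hf => full_of_conj hL hz hg hf) hcV hc4 (fun x hx => hy.fix l x ?_) (hy.triv l)
    (fun b hb x hx => ?_) (fun b hb x hx => ?_) hZJ hτc hτ1 hτN
  · exact (NO3S.Level.lev_isLev (S : Subgroup G) j).zc_le_zc (NO3S.Level.lev_mono _ hj) (NO3S.Level.lev_le _ n) hx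
  · have h1 := (hfix b hb).2
    have h2 : b * x * b⁻¹ ∈ cj b (c l) := ⟨x, hx, rfl⟩
    rwa [h1] at h2
  · have h1 := (hfix b hb).1
    have h2 : b * x * b⁻¹ ∈ cj b (N l) := ⟨x, hx, rfl⟩
    rwa [h1] at h2

/-- **(L)** for a line of `YB` on `Ω₁Z(lev S j)`, `j ≤ n`, with `Tr`. -/
theorem line_yb (hL : LnV S V Q n L W Z C A) (htr : Tr W Z C) {j : ℕ} (hj : j ≤ n) {Λ : Type*}
    {N c : Λ → Subgroup G} (hy : YB (BL (S : Subgroup G) n) (zc (lev (S : Subgroup G) j)) N c) {l : Λ}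
    (hfix : ∀ b ∈ BL (S : Subgroup G) n, Mv N c b l l) (hcV : c l ≤ V)
    (hc4 : Nat.card (c l) = 4) (hZJ : ¬ ZL (S : Subgroup G) n ≤ N l) {τ : G}
    (hτc : ∀ x ∈ c l, τ * x * τ⁻¹ ∈ c l) (hτ1 : ∀ x ∈ c l, τ * x * τ⁻¹ = x → x = 1)
    (hτN : ∀ x ∈ N l, τ * x * τ⁻¹ = x) :
    ∃ i, c l = W i ∧ (∀ m, m ≠ i → W m ≤ N l) ∧ ∀ m, m ≠ i → Z m ≤ N l := by
  refine line hL.fr htr (fun _ hz _ hg hf => full_of_conj hL hz hg hf) hcV hc4 (fun x hx => hy.fix l x ?_) (hy.triv l)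
    (fun b hb x hx => ?_) (fun b hb x hx => ?_) hZJ hτc hτ1 hτN
  · exact (NO3S.Level.lev_isLev (S : Subgroup G) j).zc_le_zc (NO3S.Level.lev_mono _ hj) (NO3S.Level.lev_le _ n) hx
  · have h1 := (hfix b hb).2
    have h2 : b * x * b⁻¹ ∈ cj b (c l) := ⟨x, hx, rfl⟩
    rwa [h1] at h2
  · have h1 := (hfix b hb).1
    have h2 : b * x * b⁻¹ ∈ cj b (N l) := ⟨x, hx, rfl⟩
    rwa [h1] at h2

end W

end Cfsg.Agent.Omega.OM.LowV

end

section


/-!
# TORUS, `T = B`, `q = 2`: the block of a parabolic `R` of lower stage over `B = C_S(Ω₁Z(lev S (n+1)))`, over `LnV`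

`R` is a minimal parabolic over `B` of characteristic 2 which moves `Ω₁Z(B)`, `lev S n ≰ O₂(R)`.

* `Blk S P n L W Z C A R j K N₁ c τ l` : `R` has one block `K`, of natural type over `𝔽₄`, and its torus line is `c = W l`;
  `K` centralises all `Z m`, `m ≠ l` (all `W m`, if `Tr W Z C`);
* `exists_blk` : it exists.
-/

set_option autoImplicit false
set_option linter.unusedSectionVars false

namespace Cfsg.Agent.Omega.OM.LowV

open Subgroup Cfsg Cfsg.Agent.ZN.ChoiceBase Cfsg.Agent.ZN.ChoiceSit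
open Cfsg.Agent.ZN (jj zj bau zc zl o2)
open Cfsg.Agent.MinSimple.MinParabolic (IsMinPar)
open Cfsg.Agent.Omega.NO3S.OneLine (NatC natC_of)
open Cfsg.Agent.Omega.OM.Lev.Nat (Wn mem_Wn)
open Cfsg.Agent.Omega.OM.GLev
open Cfsg.Agent.Omega.FFThm (NatKM SymKM)
open Cfsg.Agent.Omega.FrameFF (cv)
open Cfsg.Agent.Omega.OM.SwapL (ZL BL)
open Cfsg.Agent.Omega.OM.SwapV.Lv (LnV)
open Cfsg.Agent.Omega.OM.Lev.Low
open Cfsg.Agent.Omega.NO3S.Level (lev lev_mono lev_isLev Lev lev_le)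
open Cfsg.Agent.Omega.OM.Lev.Low
open Cfsg.Agent.Omega.OM.Lev.Low.Core (exists_all)
open Cfsg.Agent.Omega.OM.Lev.Low.Line (Tr fix_all)
open scoped commutatorElement

universe u

variable {G : Type u} [Group G] [Finite G]

/-- **The block of `R`.** -/
structure Blk {ι : Type} (S : Sylow 2 G) (V Q : Subgroup G) (n : ℕ) (L W Z C A : ι → Subgroup G) (R : Subgroup G)
    (j : ℕ) (K N₁ c : Subgroup G) (τ : G) (l : ι) : Prop where
  ln : LnV S V Q n L W Z C A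
  jn : j ≤ n
  syl : Syl (BL (S : Subgroup G) n) R
  min : IsMinPar (BL (S : Subgroup G) n) R
  char2 : R ⊓ centralizer (o2 R : Set G) ≤ o2 R
  low : ∀ i < j, lev (S : Subgroup G) i ≤ o2 R
  nlow : ¬ lev (S : Subgroup G) j ≤ o2 R
  mv : ¬ R ≤ centralizer (zc (BL (S : Subgroup G) n) : Set G)
  B0K : LevB.BL (S : Subgroup G) j ≤ K
  KR : K ≤ R
  pb : PB (LevB.BL (S : Subgroup G) j) K (zl (BL (S : Subgroup G) n) R) N₁ (cv (BL (S : Subgroup G) n) R) 4
  RK : R ≤ BL (S : Subgroup G) n ⊔ K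
  nK : BL (S : Subgroup G) n ≤ normalizer ((⁅zl (BL (S : Subgroup G) n) R, K⁆ : Subgroup G) : Set G)
  yb : YB (BL (S : Subgroup G) n) (zc (lev (S : Subgroup G) j))
    (fun _ : Fin 1 => zc (lev (S : Subgroup G) j) ⊓ centralizer (K : Set G)) (fun _ => c)
  cN1 : c ≤ N₁
  N1c : N₁ ≤ c ⊔ cv (BL (S : Subgroup G) n) R
  cD : c ⊓ cv (BL (S : Subgroup G) n) R = ⊥
  c4 : Nat.card c = 4
  τK : τ ∈ K
  τB0 : τ ∈ normalizer (LevB.BL (S : Subgroup G) j : Set G)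
  τc : cj τ c = c
  τ1 : ∀ x ∈ c, τ * x * τ⁻¹ = x → x = 1
  τD : ∀ v ∈ zl (BL (S : Subgroup G) n) R, τ * v * τ⁻¹ * v⁻¹ ∈ cv (BL (S : Subgroup G) n) R →
    v ∈ cv (BL (S : Subgroup G) n) R
  cc : c ≤ ⁅⁅zl (BL (S : Subgroup G) n) R, K⁆, LevB.BL (S : Subgroup G) j⁆
  line : ∀ y ∈ R, ∀ v ∈ N₁, v ∉ cv (BL (S : Subgroup G) n) R → y * v * y⁻¹ ∈ N₁ → cj y N₁ = N₁
  act : ∀ t ∈ BL (S : Subgroup G) n, ∀ k ∈ K, ∃ k' ∈ K, ∀ v ∈ zl (BL (S : Subgroup G) n) R,
    t * k * t⁻¹ * v * (t * k * t⁻¹)⁻¹ = k' * v * k'⁻¹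
  /-- `B` normalises `c` and `C_X(K)` -/
  fix : ∀ b ∈ BL (S : Subgroup G) n, cj b (zc (lev (S : Subgroup G) j) ⊓ centralizer (K : Set G)) =
    zc (lev (S : Subgroup G) j) ⊓ centralizer (K : Set G) ∧ cj b c = c
  /-- (L) -/
  cW : c = W l
  ZK : ∀ m, m ≠ l → Z m ≤ centralizer (K : Set G)

/-- **The block of `R` exists.** -/
theorem exists_blk {ι : Type} [Finite ι] {S : Sylow 2 G} {V Q : Subgroup G} {n : ℕ}
    {L W Z C A : ι → Subgroup G} (hln : LnV S V Q n L W Z C A)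
    (two : ∀ i : ι, ∃ j, j ≠ i) [Nonempty ι] {R : Subgroup G}
    (hP : IsMinPar (BL (S : Subgroup G) n) R) (hT : Syl (BL (S : Subgroup G) n) R)
    (hc : R ⊓ centralizer (o2 R : Set G) ≤ o2 R) (hn : ¬ lev (S : Subgroup G) n ≤ o2 R)
    (hZ : ¬ R ≤ centralizer (zc (BL (S : Subgroup G) n) : Set G)) :
    ∃ (j : ℕ) (K N₁ c : Subgroup G) (τ : G) (l : ι), Blk S V Q n L W Z C A R j K N₁ c τ l ∧
      (Tr W Z C → ∀ m, m ≠ l → W m ≤ centralizer (K : Set G)) := by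
  obtain ⟨j, hj, hlow, hnj⟩ := exists_stg (S : Subgroup G) hn
  obtain ⟨X, AA', hge, hbz, hex, F, _, _, _, k, hk, N, K, Nn, c, hout⟩ :=
    exists_out hln two hT le_rfl hP hc hZ hj hlow hnj
  have hyb := hout.inp.yk.yb
  -- `T = B` fixes all lines
  have hlin := fun l => lin_V hln hT.2.1 le_rfl hj hyb hout.inp.yk.tr
    (sub_of_co hge.hm N hk hout.nb.co hyb) ⟨⟨0, hk⟩, hout.zT _⟩ hout.wide l
  have hfix := fix_all hln.fr hyb (fun q hq l => (hlin l).1 q hq) (fun l => (hlin l).2.2)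
    fun l => by rw [(hlin l).2.1]; norm_num
  have hk1 : k = 1 := by
    have key : ∀ i : Fin k, i = ⟨0, hk⟩ := by
      intro i
      obtain ⟨t, ht, hm⟩ := hout.inp.yk.tr ⟨0, hk⟩ i
      exact hyb.uniq hm (hfix t ht _)
    have h2 : Fintype.card (Fin k) = 1 := Fintype.card_eq_one_iff.2 ⟨_, key⟩
    rwa [Fintype.card_fin] at h2
  have hF : Nat.card F = 4 := by
    rw [← hout.nb.co.card ⟨0, hk⟩]
    exact (hlin _).2.1
  subst hk1
  clear hfix hlin hyb hout K Nn c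
  -- the block
  obtain ⟨K, N₁, c, τ, h1, h2, h3, h4, h5, h6, h7, h8, h9, h10, h11, h12, h13, h14, h15, h16, h17, h18, h19⟩ :=
    exists_all hge hbz N hex (by rw [hF]; norm_num)
  rw [hF] at h3 h10
  have hyk : YK (BL (S : Subgroup G) n) R (zc (lev (S : Subgroup G) j)) (LevB.BL (S : Subgroup G) j)
      (fun _ : Fin 1 => K) (fun _ => zl (BL (S : Subgroup G) n) R)
      (fun _ => zc (lev (S : Subgroup G) j) ⊓ centralizer (K : Set G)) (fun _ => c) :=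
    { yb := h6
      pb := fun _ => ⟨_, _, _, h3⟩
      KY := fun _ => h2
      EY := fun _ => le_rfl
      memN := fun _ x hx => by
        rw [mem_inf, mem_centralizer_iff]
        exact ⟨fun h => h.2, fun h => ⟨hx, h⟩⟩
      mv := fun t ht _ _ _ => cj_eq_of_mem_normalizer (h5 ht)
      line := fun _ => h16.trans (commutator_mono (by
        rw [Subgroup.commutator_le]
        intro v hv k hk
        have hkV := (mem_normalizer_iff.1 (h3.LN hk) v⁻¹).1 (inv_mem hv)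
        have e : ⁅v, k⁆ = v * (k * v⁻¹ * k⁻¹) := by rw [commutatorElement_def]; group
        rw [e]
        exact mul_mem hv hkV) le_rfl)
      cross := fun l m hlm => absurd (Subsingleton.elim l m) hlm
      tr := fun l m => ⟨1, one_mem _, by rw [Subsingleton.elim l m]; exact Mv.one _⟩
      sup := fun _ => h4 }
  have hin : Inp S V Q n L W Z C A (BL (S : Subgroup G) n) R j (fun _ : Fin 1 => K)
      (fun _ => zl (BL (S : Subgroup G) n) R) (fun _ => zc (lev (S : Subgroup G) j) ⊓ centralizer (K : Set G))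
      (fun _ => c) := ⟨hln, two, hT, le_rfl, hj, hc, hlow, hyk⟩
  have hzT : ¬ zc (BL (S : Subgroup G) n) ≤ zc (lev (S : Subgroup G) j) ⊓ centralizer (K : Set G) := by
    intro hle
    refine hZ (h4.trans (sup_le (NO3S.Level.le_centralizer_zc _) ?_))
    exact le_centralizer_iff.1 (hle.trans inf_le_right)
  have hlin := fun l => lin_V hln hT.2.1 le_rfl hj h6 hyk.tr
    (sub_of_co hge.hm N one_pos h19 h6) ⟨0, hzT⟩ (fun l => hin.wide ⟨0, hzT⟩ l) l
  have hfix := fix_all hln.fr h6 (fun q hq l => (hlin l).1 q hq) (fun l => (hlin l).2.2)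
    fun l => by rw [(hlin l).2.1]; norm_num
  have hτX : ∀ x ∈ c, τ * x * τ⁻¹ ∈ c := fun x hx => by
    have h20 : τ * x * τ⁻¹ ∈ cj τ c := ⟨x, hx, rfl⟩
    rwa [h13] at h20
  have hZJ : ¬ ZL (S : Subgroup G) n ≤ zc (lev (S : Subgroup G) j) ⊓ centralizer (K : Set G) := fun h =>
    hzT ((zc_T_le S hT.2.1 le_rfl).trans h)
  obtain ⟨l, hcl, hW⟩ := lineZ_yb hln hj h6 (l := 0) (fun b hb => hfix b hb 0) (hlin 0).2.2 h10 hZJ hτX h14
    (fun x hx => by
      have h20 := mem_centralizer_iff.1 (mem_inf.1 hx).2 τ h11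
      rw [h20]; group)
  refine ⟨j, K, N₁, c, τ, l, ⟨hln, hj, hT, hP, hc, hlow, hnj, hZ, h1, h2, h3, h4, h5, h6, h7, h8, h9, h10, h11,
    h12, h13, h14, h15, h16, h17, h18, fun b hb => hfix b hb 0, hcl, fun m hm => (hW m hm).trans inf_le_right⟩,
    fun htr m hm => ?_⟩
  obtain ⟨l', hcl', hW', -⟩ := line_yb hln htr hj h6 (l := 0) (fun b hb => hfix b hb 0) (hlin 0).2.2 h10 hZJ hτX h14
    (fun x hx => by
      have h20 := mem_centralizer_iff.1 (mem_inf.1 hx).2 τ h11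
      rw [h20]; group)
  have hll : l' = l := by
    by_contra hne
    obtain ⟨z, hz, hz1⟩ := SwapV.Lv.Z_ne hln l
    have h21 : z ∈ W l ⊓ C l := by
      refine mem_inf.2 ⟨SwapV.Lv.Z_W hln l hz, hln.fr.WjC l l' (Ne.symm hne) ?_⟩
      rw [← hcl', hcl]
      exact SwapV.Lv.Z_W hln l hz
    rw [hln.fr.dir l, mem_bot] at h21
    exact hz1 h21
  subst hll
  exact (hW' m hm).trans inf_le_right

end Cfsg.Agent.Omega.OM.LowV

end

section


/-!
# TORUS over the frame `LnV`: weak form of UNI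

* `weak_of` : a minimal parabolic `R` over `B` of lower stage which moves `Ω₁Z(B)` moves exactly one `Z l`, and some
  `r ∈ R` moves `Z l` to a subgroup of `W l`, not in `Z_J`;
* `exists_weak` : the same without the block.
-/

set_option autoImplicit false
set_option linter.unusedSectionVars false

namespace Cfsg.Agent.Omega.OM.LowV

open Subgroup Cfsg Cfsg.Agent.ZN.ChoiceBase Cfsg.Agent.ZN.ChoiceSit
open Cfsg.Agent.ZN (jj zj bau zc zl o2)
open Cfsg.Agent.MinSimple.MinParabolic (IsMinPar)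
open Cfsg.Agent.Omega.OM.SwapL (ZL BL)
open Cfsg.Agent.Omega.OM.SwapV.Lv (LnV)
open Cfsg.Agent.Omega.NO3S.Level (lev lev_mono lev_isLev Lev lev_le)
open Cfsg.Agent.Omega.OM.Lev.Low

universe u

variable {G : Type u} [Group G] [Finite G]

section bk

variable {ι : Type} {S : Sylow 2 G} {V Q : Subgroup G} {n : ℕ} {L W Z C A : ι → Subgroup G} {R : Subgroup G}
  {j : ℕ} {K N₁ c : Subgroup G} {τ : G} {l : ι}

/-- `W l ∩ Z_J ≤ Z l` -/
theorem W_inf_ZJ (h : LnV S V Q n L W Z C A) {x : G} (hx : x ∈ W l) (hxJ : x ∈ ZL (S : Subgroup G) n) : x ∈ Z l := by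
  obtain ⟨w, hw, c', hc', -, e⟩ := h.fr.split_ZJ l hxJ
  have h1 : c' ∈ W l ⊓ C l := by
    refine mem_inf.2 ⟨?_, hc'⟩
    have e1 : c' = w⁻¹ * x := by rw [e]; group
    rw [e1]
    exact mul_mem (inv_mem (SwapV.Lv.Z_W h l hw)) hx
  rw [h.fr.dir l, mem_bot] at h1
  rw [e, h1, mul_one]
  exact hw

theorem weak_of (h : Blk S V Q n L W Z C A R j K N₁ c τ l) :
    (∃ r ∈ R, cj r (Z l) ≤ W l ⊓ centralizer (LevB.BL (S : Subgroup G) j : Set G) ∧
      ¬ cj r (Z l) ≤ ZL (S : Subgroup G) n) ∧ ∀ m, m ≠ l → R ≤ centralizer (Z m : Set G) := by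
  have hZc : Z l ≤ c := h.cW ▸ SwapV.Lv.Z_W h.ln l
  have hcX : c ≤ zc (lev (S : Subgroup G) j) := h.yb.cX 0
  refine ⟨⟨τ, h.KR h.τK, ?_, fun hle => ?_⟩, fun m hm => ?_⟩
  · have h1 := cj_mono τ hZc
    rw [h.τc] at h1
    refine le_inf (h1.trans h.cW.le) (h1.trans (hcX.trans ?_))
    rw [← le_centralizer_iff]
    exact (LevB.lb S j).Bc
  · obtain ⟨z, hz, hz1⟩ := SwapV.Lv.Z_ne h.ln l
    have h1 : τ * z * τ⁻¹ ∈ ZL (S : Subgroup G) n := hle ⟨z, hz, rfl⟩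
    have h2 : τ * z * τ⁻¹ ∈ c := by
      rw [← h.τc]
      exact ⟨z, hZc hz, rfl⟩
    have h3 := W_inf_ZJ h.ln (h.cW ▸ h2) h1
    have h4 := SwapV.Lv.Z_eq h.ln h3 hz (fun e => hz1 (conj_eq_one_iff.1 e)) hz1
    exact hz1 (h.τ1 z (hZc hz) h4)
  · refine h.RK.trans (sup_le ?_ (le_centralizer_iff.1 (h.ZK m hm)))
    intro b hb
    rw [mem_centralizer_iff]
    intro z hz
    exact (mem_centralizer_iff.1 hb.2 z (h.ln.fr.Z_le m hz))

end bk

/-- **Weak UNI.** -/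
theorem exists_weak {ι : Type} [Finite ι] [Nonempty ι] {S : Sylow 2 G} {V Q : Subgroup G} {n : ℕ}
    {L W Z C A : ι → Subgroup G} (h : LnV S V Q n L W Z C A) (two : ∀ i : ι, ∃ j, j ≠ i)
    {R : Subgroup G} (hP : IsMinPar (BL (S : Subgroup G) n) R) (hT : Syl (BL (S : Subgroup G) n) R)
    (hc : R ⊓ centralizer (o2 R : Set G) ≤ o2 R) (hn : ¬ lev (S : Subgroup G) n ≤ o2 R)
    (hZ : ¬ R ≤ centralizer (zc (BL (S : Subgroup G) n) : Set G)) :
    ∃ i, (∃ r ∈ R, cj r (Z i) ≤ W i ⊔ ZL (S : Subgroup G) n ∧ ¬ cj r (Z i) ≤ ZL (S : Subgroup G) n) ∧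
      ∀ m, m ≠ i → R ≤ centralizer (Z m : Set G) := by
  obtain ⟨j, K, N₁, c, τ, l, hb, -⟩ := exists_blk h two hP hT hc hn hZ
  obtain ⟨⟨r, hr, h1, h2⟩, h3⟩ := weak_of hb
  exact ⟨l, ⟨r, hr, (h1.trans inf_le_left).trans le_sup_left, h2⟩, h3⟩

end Cfsg.Agent.Omega.OM.LowV

end

section


/-!
# THEOREM U over `B = BL S n`, weak `par`: the minimal parabolics of smaller stage

* `LowW S n Z W` : every `R ∈ P(B)`, `R ≤ C_G(Z l)` for some `l`, of stage `< n` which moves `Ω₁Z(B)` fuses the elements of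
  some `(W i)#` and centralises `Z p`, `p ≠ i`;
* `lowW_of` : `LnV` gives `LowW` (helper646's torus block).
-/

set_option autoImplicit false
set_option linter.unusedSectionVars false

namespace Cfsg.Agent.Omega.EDel.BxW

open Subgroup Cfsg Cfsg.Agent.ZN.ChoiceBase
open Cfsg.Agent.ZN (zc zl o2)
open Cfsg.Agent.ZN.ChoiceSit (Syl)
open Cfsg.Agent.Omega.OM
open Cfsg.Agent.Omega.OM.SwapL (ZL BL)
open Cfsg.Agent.Omega.OM.SwapV.Lv (LnV)
open Cfsg.Agent.Omega.NO3S.Level (lev)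
open Cfsg.Agent.MinSimple.MinParabolic (IsMinPar)

universe u

variable {G : Type u} [Group G] [Finite G]

/-- **The minimal parabolics of smaller stage over `B` inside a `C_G(Z l)` fuse `(W i)#`.** -/
def LowW (S : Sylow 2 G) (n : ℕ) {ι : Type} (Z W : ι → Subgroup G) : Prop :=
  ∀ R : Subgroup G, (∃ l, R ≤ centralizer (Z l : Set G)) → IsMinPar (BL (S : Subgroup G) n) R →
    Syl (BL (S : Subgroup G) n) R → R ⊓ centralizer (o2 R : Set G) ≤ o2 R →
    ¬ R ≤ centralizer (zc (BL (S : Subgroup G) n) : Set G) → ¬ lev (S : Subgroup G) n ≤ o2 R →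
    ∃ i, (∀ x ∈ W i, x ≠ 1 → ∃ r ∈ R, ∃ w ∈ Z i, r * w * r⁻¹ = x) ∧ ∀ p, p ≠ i → R ≤ centralizer (Z p : Set G)

/-- a fixed-point-free automorphism of a group of order 4 is transitive -/
theorem trans_four {c : Subgroup G} (h4 : Nat.card c = 4) {τ : G} (hτ : cj τ c = c)
    (h1 : ∀ x ∈ c, τ * x * τ⁻¹ = x → x = 1) {w x : G} (hw : w ∈ c) (hw1 : w ≠ 1) (hx : x ∈ c) (hx1 : x ≠ 1) :
    x = w ∨ x = τ * w * τ⁻¹ ∨ x = τ * (τ * w * τ⁻¹) * τ⁻¹ := by
  classical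
  have hmem : ∀ y ∈ c, τ * y * τ⁻¹ ∈ c := fun y hy => by
    rw [← hτ]
    exact ⟨y, hy, rfl⟩
  have hne : ∀ y : G, y ≠ 1 → τ * y * τ⁻¹ ≠ 1 := fun y hy h => hy (by simpa using h)
  set a : G := τ * w * τ⁻¹ with ha
  set b : G := τ * a * τ⁻¹ with hb
  have hac : a ∈ c := hmem w hw
  have hbc : b ∈ c := hmem a hac
  have ha1 : a ≠ 1 := hne w hw1
  have hb1 : b ≠ 1 := hne a ha1
  have haw : a ≠ w := fun h => hw1 (h1 w hw (by rw [← ha]; exact h))
  have hba : b ≠ a := fun h => ha1 (h1 a hac (by rw [← hb]; exact h))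
  by_contra hcon
  push Not at hcon
  obtain ⟨hxw, hxa, hxb⟩ := hcon
  -- four elements
  have hcard : ({1, w, a, x} : Finset G).card = 4 := by
    rw [Finset.card_insert_of_notMem, Finset.card_insert_of_notMem, Finset.card_insert_of_notMem,
      Finset.card_singleton]
    · simpa using fun h => hxa h.symm
    · simp only [Finset.mem_insert, Finset.mem_singleton, not_or]
      exact ⟨fun h => haw h.symm, fun h => hxw h.symm⟩
    · simp only [Finset.mem_insert, Finset.mem_singleton, not_or]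
      exact ⟨fun h => hw1 h.symm, fun h => ha1 h.symm, fun h => hx1 h.symm⟩
  have hsub : (({1, w, a, x} : Finset G) : Set G) ⊆ (c : Set G) := by
    intro y hy
    simp only [Finset.coe_insert, Finset.coe_singleton, Set.mem_insert_iff, Set.mem_singleton_iff] at hy
    rcases hy with rfl | rfl | rfl | rfl
    · exact one_mem _
    · exact hw
    · exact hac
    · exact hx
  have heq : (({1, w, a, x} : Finset G) : Set G) = (c : Set G) := by
    refine Set.eq_of_subset_of_ncard_le hsub ?_ (Set.toFinite _)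
    rw [Set.ncard_coe_finset, hcard]
    exact h4.le
  have hb' : b ∈ ({1, w, a, x} : Finset G) := by
    have : b ∈ (c : Set G) := hbc
    rw [← heq] at this
    exact_mod_cast this
  simp only [Finset.mem_insert, Finset.mem_singleton] at hb'
  rcases hb' with h | h | h | h
  · exact hb1 h
  · -- `b = w` : then `x` is fixed
    have hx' : τ * x * τ⁻¹ ∈ ({1, w, a, x} : Finset G) := by
      have : τ * x * τ⁻¹ ∈ (c : Set G) := hmem x hx
      rw [← heq] at this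
      exact_mod_cast this
    simp only [Finset.mem_insert, Finset.mem_singleton] at hx'
    have inj : ∀ {y z : G}, τ * y * τ⁻¹ = τ * z * τ⁻¹ → y = z := fun h => by
      have := congrArg (fun t => τ⁻¹ * t * τ) h
      simpa [mul_assoc] using this
    rcases hx' with h' | h' | h' | h'
    · exact hne x hx1 h'
    · exact hxa (inj (h'.trans (h.symm.trans hb)))
    · exact hxw (inj (h'.trans ha))
    · exact hx1 (h1 x hx h')
  · exact hba h
  · exact hxb h.symm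

/-- **`LnV` gives `LowW`.** -/
theorem lowW_of {ι : Type} [Finite ι] [Nonempty ι] {S : Sylow 2 G} {V Q : Subgroup G} {n : ℕ}
    {L W Z C A : ι → Subgroup G} (h : LnV S V Q n L W Z C A) (two : ∀ i : ι, ∃ j, j ≠ i) : LowW S n Z W := by
  rintro R - hR hT hc hZ hn
  obtain ⟨j, K, N₁, c, τ, l, hb, -⟩ := LowV.exists_blk h two hR hT hc hn hZ
  have hcW := hb.cW
  subst hcW
  obtain ⟨w, hw, hw1⟩ := SwapV.Lv.Z_ne h l
  have hwW : w ∈ W l := SwapV.Lv.Z_W h l hw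
  have hτR : τ ∈ R := hb.KR hb.τK
  refine ⟨l, fun x hx hx1 => ?_, fun p hp => ?_⟩
  · rcases trans_four hb.c4 hb.τc hb.τ1 hwW hw1 hx hx1 with rfl | rfl | rfl
    · exact ⟨1, one_mem _, x, hw, by simp⟩
    · exact ⟨τ, hτR, w, hw, rfl⟩
    · exact ⟨τ * τ, mul_mem hτR hτR, w, hw, by group⟩
  · refine hb.RK.trans (sup_le ?_ (le_centralizer_iff.1 (hb.ZK p hp)))
    exact (SwapL.lb S n).Bc.trans (centralizer_le (h.fr.Z_le p))

end Cfsg.Agent.Omega.EDel.BxW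

end
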